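import Mathlib

namespace Groth.Agent.H8.Jap.HensGN
open TensorProduct
universe u

/-- `Ω ⊗[A] S'` embeds into a localization of `Ω ⊗[A] S`, for `S'` a localization of `S`. -/
theorem exists_injective_tensor_localization (A Ω S S' : Type u) [CommRing A] [CommRing Ω]
    [CommRing S] [CommRing S'] [Algebra A Ω] [Algebra A S] [Algebra A S'] [Algebra S S']
    [IsScalarTower A S S'] (M : Submonoid S) [IsLocalization M S'] :
    ∃ g : Ω ⊗[A] S' →+*
      Localization (M.map (Algebra.TensorProduct.includeRight : S →ₐ[A] Ω ⊗[A] S)),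
      Function.Injective g := by
  set M' : Submonoid (Ω ⊗[A] S) := M.map (Algebra.TensorProduct.includeRight : S →ₐ[A] Ω ⊗[A] S)
    with hM'
  let incR : S →+* Ω ⊗[A] S := (Algebra.TensorProduct.includeRight : S →ₐ[A] Ω ⊗[A] S).toRingHom
  have hunits : ∀ m : M, IsUnit (((algebraMap (Ω ⊗[A] S) (Localization M')).comp incR) m) := by
    intro m
    apply IsLocalization.map_units (Localization M') (⟨incR m, ⟨m, m.2, rfl⟩⟩ : M')
  let g2r : S' →+* Localization M' :=
    IsLocalization.lift (M := M) (g := (algebraMap (Ω ⊗[A] S) (Localization M')).comp incR) hunits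
  have hg2r : ∀ s : S, g2r (algebraMap S S' s) = algebraMap (Ω ⊗[A] S) (Localization M')
      ((1 : Ω) ⊗ₜ[A] s) := fun s => IsLocalization.lift_eq hunits s
  let g2 : S' →ₐ[A] Localization M' :=
    { g2r with
      commutes' := fun a => by
        show g2r (algebraMap A S' a) = _
        rw [IsScalarTower.algebraMap_apply A S S', hg2r,
          IsScalarTower.algebraMap_apply A (Ω ⊗[A] S) (Localization M')]
        congr 1
        rw [Algebra.algebraMap_eq_smul_one a, TensorProduct.tmul_smul,
          Algebra.algebraMap_eq_smul_one a]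
        rfl }
  let g1 : Ω →ₐ[A] Localization M' :=
    (IsScalarTower.toAlgHom A (Ω ⊗[A] S) (Localization M')).comp
      (Algebra.TensorProduct.includeLeft : Ω →ₐ[A] Ω ⊗[A] S)
  let g : Ω ⊗[A] S' →ₐ[A] Localization M' :=
    Algebra.TensorProduct.lift g1 g2 (fun _ _ => Commute.all _ _)
  let f : Ω ⊗[A] S →ₐ[A] Ω ⊗[A] S' :=
    Algebra.TensorProduct.map (AlgHom.id A Ω) (IsScalarTower.toAlgHom A S S')
  have hunits' : ∀ y : M', IsUnit (f.toRingHom y) := by
    rintro ⟨_, m, hm, rfl⟩
    have h1 : IsUnit (algebraMap S S' m) := IsLocalization.map_units S' (⟨m, hm⟩ : M)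
    have h2 : f.toRingHom ((Algebra.TensorProduct.includeRight : S →ₐ[A] Ω ⊗[A] S) m) =
        (Algebra.TensorProduct.includeRight : S' →ₐ[A] Ω ⊗[A] S') (algebraMap S S' m) := by
      simp [f]
    rw [h2]
    exact h1.map _
  let h : Localization M' →+* Ω ⊗[A] S' := IsLocalization.lift (M := M') (g := f.toRingHom) hunits'
  have hh : ∀ t : Ω ⊗[A] S, h (algebraMap (Ω ⊗[A] S) (Localization M') t) = f t :=
    fun t => IsLocalization.lift_eq hunits' t
  have h2 : ∀ s' : S', h (g2r s') = (1 : Ω) ⊗ₜ[A] s' := by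
    intro s'
    have : (h.comp g2r) = (Algebra.TensorProduct.includeRight : S' →ₐ[A] Ω ⊗[A] S').toRingHom := by
      apply IsLocalization.ringHom_ext M
      ext s
      simp only [RingHom.comp_apply]
      rw [hg2r, hh]
      simp [f]
    exact congrArg (fun φ => φ s') this
  have hleft : ∀ x : Ω ⊗[A] S', h (g x) = x := by
    intro x
    induction x using TensorProduct.induction_on with
    | zero => simp
    | tmul ω s' =>
      have e1 : g (ω ⊗ₜ[A] s') = algebraMap (Ω ⊗[A] S) (Localization M') (ω ⊗ₜ[A] (1 : S)) *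
          g2r s' := by
        simp [g, g1, g2]
      rw [e1, map_mul, hh, h2]
      simp [f]
    | add x y hx hy => rw [map_add, map_add, hx, hy]
  exact ⟨g.toRingHom, Function.LeftInverse.injective hleft⟩

/-- Reducedness passes to `Ω ⊗ S'` for a localization `S'` of `S`. -/
theorem isReduced_tensor_localization (A Ω S S' : Type u) [CommRing A] [CommRing Ω]
    [CommRing S] [CommRing S'] [Algebra A Ω] [Algebra A S] [Algebra A S'] [Algebra S S']
    [IsScalarTower A S S'] (M : Submonoid S) [IsLocalization M S'] [IsReduced (Ω ⊗[A] S)] :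
    IsReduced (Ω ⊗[A] S') := by
  obtain ⟨g, hg⟩ := exists_injective_tensor_localization A Ω S S' M
  exact isReduced_of_injective g hg

/-- Integrality passes to `Ω ⊗ S'` for a localization `S'` of `S` at elements which stay
nonzero. -/
theorem isDomain_tensor_localization (A Ω S S' : Type u) [CommRing A] [CommRing Ω]
    [CommRing S] [CommRing S'] [Algebra A Ω] [Algebra A S] [Algebra A S'] [Algebra S S']
    [IsScalarTower A S S'] (M : Submonoid S) [IsLocalization M S'] [IsDomain (Ω ⊗[A] S)]
    (hM : ∀ m ∈ M, (1 : Ω) ⊗ₜ[A] m ≠ 0) :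
    IsDomain (Ω ⊗[A] S') := by
  obtain ⟨g, hg⟩ := exists_injective_tensor_localization A Ω S S' M
  haveI : IsDomain (Localization
      (M.map (Algebra.TensorProduct.includeRight : S →ₐ[A] Ω ⊗[A] S))) := by
    apply IsLocalization.isDomain_localization
    rintro _ ⟨m, hm, rfl⟩
    exact mem_nonZeroDivisors_of_ne_zero (hM m hm)
  exact hg.isDomain g

end Groth.Agent.H8.Jap.HensGN
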