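import Mathlib
import Groth.Prelude.Def_EGA4b
import Groth.Agent.Lib.Helper8.Japanese.QE8
import Groth.Agent.Lib.Helper8.Japanese.ComplRed9
import Groth.Agent.Lib.Helper8.NormalHomBC
import Groth.Agent.Lib.Helper8.NormalAscent
import Groth.Agent.Lib.Helper8.Hens.GeomUnibranch

namespace Groth.Agent.H8.Jap.HensGN
open TensorProduct IsLocalRing
open Groth.Agent.H8.GNorm Groth.Agent.H8.NHC
universe u

/-- A local ring all of whose localizations at primes are domains is a domain. -/
theorem isDomain_of_normalLoc_of_isLocalRing (C : Type u) [CommRing C] [IsLocalRing C]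
    (h : NormalLoc C) : IsDomain C := by
  let e : C ≃ₐ[C] (Localization.AtPrime (maximalIdeal C)) :=
    IsLocalization.atUnits C (maximalIdeal C).primeCompl (fun x => by simpa using! fun a => a)
  haveI : IsDomain (Localization.AtPrime (maximalIdeal C)) := (h (maximalIdeal C)).1
  exact e.toRingEquiv.toMulEquiv.isDomain _

/-- For a Noetherian local ring `A` with geometrically normal formal fibres and a finite
`A`-algebra `A'` which is a normal local domain, `A' ⊗ Â` is a normal local domain. -/
theorem isDomain_tensor_cpl (A : Type u) [CommRing A] [IsNoetherianRing A] [IsLocalRing A]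
    (h : EGA4.HasGeomNormalFormalFibres A) (A' : Type u) [CommRing A'] [Algebra A A']
    [Module.Finite A A'] [IsLocalRing A'] [IsDomain A'] [IsIntegrallyClosed A'] :
    IsDomain (A' ⊗[A] EGA4.Cpl A) ∧ NormalLoc (A' ⊗[A] EGA4.Cpl A) := by
  haveI : IsNoetherianRing A' := IsNoetherianRing.of_finite A A'
  haveI : IsNoetherianRing (EGA4.Cpl A) := OneDim.isNoetherianRing_adicCompletion A
  have hA' : NormalLoc A' := fun p _ =>
    ⟨inferInstance, isIntegrallyClosed_of_isLocalization _ p.primeCompl p.primeCompl_le_nonZeroDivisors⟩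
  have hfib : GeomNormalFibres A' (A' ⊗[A] EGA4.Cpl A) :=
    NHB.geomNormalFibres_baseChange A (EGA4.Cpl A) A' h
  let ec := Algebra.TensorProduct.comm A (EGA4.Cpl A) A'
  haveI : IsNoetherianRing (EGA4.Cpl A ⊗[A] A') :=
    IsNoetherianRing.of_finite (EGA4.Cpl A) _
  haveI : IsNoetherianRing (A' ⊗[A] EGA4.Cpl A) :=
    isNoetherianRing_of_ringEquiv _ ec.toRingEquiv
  have hC : NormalLoc (A' ⊗[A] EGA4.Cpl A) := by
    refine NAsc.normalLoc_of_flat_of_fibres A' (A' ⊗[A] EGA4.Cpl A) (fun r _ => ?_) hA'
    exact normalLoc_tensor_field A' (A' ⊗[A] EGA4.Cpl A) hfib r.ResidueField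
  -- local
  obtain ⟨ψ, hψ⟩ := ComplRed.exists_bijective_adicCompletion_jacobson A A'
  have hjac : (⊥ : Ideal A').jacobson = maximalIdeal A' :=
    IsLocalRing.jacobson_eq_maximalIdeal ⊥ bot_ne_top
  haveI : IsLocalRing (AdicCompletion ((⊥ : Ideal A').jacobson) A') := by
    rw [hjac]; infer_instance
  haveI : IsLocalRing (EGA4.Cpl A ⊗[A] A') := (RingEquiv.ofBijective ψ hψ).isLocalRing
  haveI : IsLocalRing (A' ⊗[A] EGA4.Cpl A) := ec.toRingEquiv.isLocalRing
  exact ⟨isDomain_of_normalLoc_of_isLocalRing _ hC, hC⟩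

/-- **EGA IV 18.9.1**: the completion of a henselian Noetherian local domain with geometrically
normal formal fibres is a domain. -/
theorem isDomain_cpl_of_henselian (A : Type u) [CommRing A] [IsNoetherianRing A]
    [HenselianLocalRing A] [IsDomain A] (h : EGA4.HasGeomNormalFormalFibres A) :
    IsDomain (EGA4.Cpl A) := by
  obtain ⟨-, hfin⟩ := QE.isReduced_cpl_and_finite_integralClosure A h
  haveI := hfin
  haveI : IsLocalRing (integralClosure A (FractionRing A)) := (Hens.GU.isLocalRing_of_isDomain A A).2
  haveI : IsIntegrallyClosed (integralClosure A (FractionRing A)) :=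
    integralClosure.isIntegrallyClosedOfFiniteExtension (FractionRing A)
  haveI := (isDomain_tensor_cpl A h (integralClosure A (FractionRing A))).1
  have hinj0 := Hens.GU.injective_algebraMap_integralClosure A
  have hinj : Function.Injective
      (Algebra.TensorProduct.includeRight :
        EGA4.Cpl A →ₐ[A] (integralClosure A (FractionRing A)) ⊗[A] EGA4.Cpl A) :=
    Algebra.TensorProduct.includeRight_injective hinj0
  exact hinj.isDomain (Algebra.TensorProduct.includeRight :
        EGA4.Cpl A →ₐ[A] (integralClosure A (FractionRing A)) ⊗[A] EGA4.Cpl A).toRingHom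

end Groth.Agent.H8.Jap.HensGN
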